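import Groth.Agent.Lib.SmoothPairing
import Groth.Agent.SmoothImmX.Basic
import Groth.Agent.RelVA16.FrameIso
import Groth.Agent.S9370

/-!
# The adjunction formula for a closed immersion of smooth schemes
-/

set_option autoImplicit false
set_option linter.style.haveILetI false
set_option linter.unusedSectionVars false
set_option backward.isDefEq.respectTransparency false
set_option backward.isDefEq.respectTransparency.types false
set_option maxHeartbeats 1000000

universe u

open CategoryTheory CategoryTheory.Limits AlgebraicGeometry TopologicalSpace Opposite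
open Groth.Agent.AModX Groth.Agent.H23

noncomputable section

namespace Groth.Agent.AdjForm

open Groth.Agent.SmoothAdapted Groth.Agent.SmoothPairing

/-- A section generating freely on all basic opens of an affine open is a frame. -/
theorem isFrame_of_basicOpens {X : Scheme.{u}} {L : X.Modules} {U : X.Opens} (hU : IsAffineOpen U) (s : Γ(L, U))
    (key : ∀ g : Γ(X, U), Function.Bijective fun r : Γ(X, X.basicOpen g) => r • res L (X.basicOpen_le g) s) :
    InvX.IsFrame s := by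
  refine InvX.isFrame_of_germ fun y hy => ⟨fun c c' hc => ?_, fun w => ?_⟩
  · obtain ⟨W, hyW, r, rfl⟩ := TopCat.Presheaf.exists_germ_eq X.presheaf c
    obtain ⟨W', hyW', r', rfl⟩ := TopCat.Presheaf.exists_germ_eq X.presheaf c'
    dsimp only at hc
    have hy₁ : y ∈ W ⊓ W' ⊓ U := ⟨⟨hyW, hyW'⟩, hy⟩
    rw [← RefX.germ_resR (inf_le_left.trans inf_le_left : W ⊓ W' ⊓ U ≤ W) hy₁,
      ← RefX.germ_resR (inf_le_left.trans inf_le_right : W ⊓ W' ⊓ U ≤ W') hy₁,
      ← RefX.germ_res L (inf_le_right : W ⊓ W' ⊓ U ≤ U) hy₁, ← QCoh.germ_smul', ← QCoh.germ_smul'] at hc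
    obtain ⟨W'', hyW'', i, j, hij⟩ := TopCat.Presheaf.germ_eq (C := AddCommGrpCat.{u}) L.presheaf y hy₁ hy₁ _ _ hc
    obtain ⟨g, hgW, hyg⟩ := hU.exists_basicOpen_le ⟨y, hyW''⟩ hy
    change res L i.le _ = res L j.le _ at hij
    have h2 := congrArg (res L hgW) hij
    simp only [res_smul, res_res] at h2
    have h3 := congrArg (X.presheaf.germ _ y hyg) ((key g).1 h2)
    simp only [RefX.germ_resR] at h3
    exact h3
  · obtain ⟨W, hyW, m, rfl⟩ := TopCat.Presheaf.exists_germ_eq L.presheaf w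
    obtain ⟨g, hgW, hyg⟩ := hU.exists_basicOpen_le ⟨y, hyW⟩ hy
    obtain ⟨r, hr⟩ := (key g).2 (res L hgW m)
    refine ⟨X.presheaf.germ _ y hyg r, ?_⟩
    dsimp only at hr ⊢
    rw [← RefX.germ_res L (X.basicOpen_le g) hyg, ← QCoh.germ_smul', hr, RefX.germ_res]

/-- The wedge of a frame is a frame of the top exterior power. -/
theorem isFrame_top {Y : Scheme.{u}} {m : ℕ} {E L : Y.Modules}
    (φ : ∀ U : Y.affineOpens, (L.val.obj (op U.1)) ≃ₗ[Γ(Y, U.1)] ↥(⋀[Γ(Y, U.1)]^m (E.val.obj (op U.1))))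
    (hφ : ∀ (U V : Y.affineOpens) (h : V.1 ≤ U.1) (e : Fin m → E.val.obj (op U.1)),
      L.val.map (homOfLE h).op ((φ U).symm (exteriorPower.ιMulti _ m e)) =
        (φ V).symm (exteriorPower.ιMulti _ m (fun j => E.val.map (homOfLE h).op (e j))))
    {W : Y.Opens} (hW : IsAffineOpen W) {e : Fin m → Γ(E, W)} (he : Frame.IsFrame E e) :
    InvX.IsFrame (M := L) (top φ W e) := by
  refine isFrame_of_basicOpens hW _ fun g => ?_
  rw [res_top φ hφ hW (hW.basicOpen g) (Y.basicOpen_le g)]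
  exact top_bijective φ (hW.basicOpen g) (he.res (Y.basicOpen_le g))

variable {S X Y : Scheme.{u}} (f : X ⟶ S) (g : Y ⟶ S) [QuasiSeparated f] [QuasiSeparated g] (n m : ℕ)
  [SmoothOfRelativeDimension n f] [SmoothOfRelativeDimension m g] (i : Y ⟶ X) [IsClosedImmersion i] (hi : i ≫ f = g)

include hi

/-- Around every point of the subscheme there are regular equations inside adapted frames. -/
theorem exists_gens_adapted (cm : (Scheme.Modules.pullback i).obj (Omega.sheaf f) ⟶ Omega.sheaf g)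
    (hc : OmegaSh.IsDiffCompat i (OmegaSh.dOmega f) (OmegaSh.dOmega g) cm) (y : Y) :
    (∃ U : X.affineOpens, i y ∈ U.1 ∧ ∃ rs : List Γ(X, U.1), rs.length = n - m ∧
      RingTheory.Sequence.IsRegular Γ(X, U.1) rs ∧ RingHom.ker (i.app U.1).hom = Ideal.ofList rs) ∧
    ∃ W : X.Opens, IsAffineOpen W ∧ i y ∈ W ∧
      ∃ D : Adapted i cm (n - m) m n W, ConormalWedge.IsGens i W D.gen := by
  haveI : Smooth f := SmoothOfRelativeDimension.smooth n f
  haveI : Smooth g := SmoothOfRelativeDimension.smooth m g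
  haveI : Smooth (i ≫ f) := by rw [hi]; infer_instance
  obtain ⟨U, hU, hyU, rs, hseq, hker⟩ := (SmoothImmX.regClosed_of_smooth f i).2 y
  rw [Scheme.Hom.ker_apply] at hker
  choose f₀ hf₀ using fun l : Fin rs.length =>
    ConormalWedge.exists_fn i (rs[l]) (by rw [hker]; exact Ideal.subset_span (List.getElem_mem l.2))
  have hl : (List.ofFn fun l => ConormalWedge.fn i (f₀ l)) = rs := by
    simp only [hf₀]
    exact List.ofFn_getElem
  have hg₀ : ConormalWedge.IsGens i U f₀ := by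
    refine ⟨by rw [hl]; exact RingTheory.Sequence.IsRegular.toIsWeaklyRegular hseq, ?_⟩
    rw [hker, ← congrArg Ideal.ofList hl]
    exact congrArg Ideal.span (Set.ext fun a => (List.mem_ofFn.trans Iff.rfl).symm)
  obtain ⟨W, hW, hyW, D, hD⟩ := exists_adapted i cm hc (n := n) (r := m) hi y hU hyU hg₀
  obtain hlen : rs.length = n - m := by have := D.hn; omega
  refine ⟨⟨⟨U, hU⟩, hyU, rs, hlen, hseq, hker⟩, W, hW, hyW, ?_⟩
  exact hlen ▸ ⟨D, hD⟩

/-- A closed immersion of smooth schemes is regular of codimension the difference of the dimensions. -/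
theorem isRegularImmersionOfCodim : RegImm.IsRegularImmersionOfCodim RegImm.Kind.regular (n - m) i := by
  obtain ⟨cm, hc, -⟩ := S9370.result f g i (𝟙 S) (by rw [Category.comp_id, hi]) (Omega.sheaf f) (OmegaSh.dOmega f)
    (OmegaUniv.isUniversal_dOmega f) (Omega.sheaf g) (OmegaSh.dOmega g) (OmegaUniv.isUniversal_dOmega g)
  refine ⟨inferInstance, fun y => ?_⟩
  obtain ⟨U, hyU, rs, hlen, hseq, hker⟩ := (exists_gens_adapted f g n m i hi cm hc y).1
  exact ⟨U, hyU, IsZariskiLocalAtTarget.restrict ‹IsClosedImmersion i› U.1, rs, hlen, hseq, hker⟩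

/-- The adjunction formula. -/
theorem nonempty_iso (hmn : m ≤ n) {ωX : X.Modules} (hωX : ExtPow.IsExtPow n (Omega.sheaf f) ωX)
    {ωY : Y.Modules} (hωY : ExtPow.IsExtPow m (Omega.sheaf g) ωY)
    {L : Y.Modules} (hL : ExtPow.IsExtPow (n - m) (Omega.conormal i) L) :
    Nonempty ((Scheme.Modules.pullback i).obj ωX ≅ CohB1.tensorMod ωY L) := by
  obtain ⟨cm, hc, -⟩ := S9370.result f g i (𝟙 S) (by rw [Category.comp_id, hi]) (Omega.sheaf f) (OmegaSh.dOmega f)
    (OmegaUniv.isUniversal_dOmega f) (Omega.sheaf g) (OmegaSh.dOmega g) (OmegaUniv.isUniversal_dOmega g)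
  obtain ⟨φX, hφX⟩ := hωX
  obtain ⟨φY, hφY⟩ := hωY
  obtain ⟨φL, hφL⟩ := hL
  have hn : n - m + m = n := by omega
  let J : Type u := Σ W : {W : X.Opens // IsAffineOpen W},
    {D : Adapted i cm (n - m) m n W.1 // ConormalWedge.IsGens i W.1 D.gen}
  let U : J → Y.Opens := fun a => i ⁻¹ᵁ a.1.1
  let tt : ∀ (W : X.Opens) (hW : IsAffineOpen W) (D : Adapted i cm (n - m) m n W),
      Γ(CohB1.tensorMod ωY L, i ⁻¹ᵁ W) := fun W hW D =>
    InvX.tmul (tX i cm φY W D.om) (ConormalWedge.wedge i φL hW D.gen)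
  let nn : ∀ (W : X.Opens) (D : Adapted i cm (n - m) m n W),
      Γ((Scheme.Modules.pullback i).obj ωX, i ⁻¹ᵁ W) := fun W D => val i hn φX W D.gen D.om
  obtain ⟨φ, -⟩ := RelVA16.exists_iso_of_frames (M := CohB1.tensorMod ωY L)
    (N := (Scheme.Modules.pullback i).obj ωX) U
    (fun y => by
      obtain ⟨W, hW, hyW, D, hD⟩ := (exists_gens_adapted f g n m i hi cm hc y).2
      exact ⟨⟨⟨W, hW⟩, D, hD⟩, hyW⟩)
    (fun a => tt a.1.1 a.1.2 a.2.1)
    (fun a => InvX.isFrame_tmul (isFrame_top φY hφY (a.1.2.preimage i) a.2.1.frameX)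
      (ConormalWedge.wedge_isFrame i φL hφL a.1.2 a.2.2))
    (fun a => nn a.1.1 a.2.1)
    (fun a => InvX.isFrame_pullElt i
      (isFrame_top φX hφX a.1.2 (show Frame.IsFrame (Omega.sheaf f) (vec i hn a.2.1.gen a.2.1.om) from a.2.1.frameP)))
    fun a b W ha hb q hq => by
      refine eq_of_locally _ _ fun y hy => ?_
      obtain ⟨O, hO, hOW⟩ := i.isClosedEmbedding.isInducing.isOpen_iff.1 W.2
      obtain ⟨_, ⟨(V : X.Opens), (hV : IsAffineOpen V), rfl⟩, hyV, hVO⟩ :=
        X.isBasis_affineOpens.exists_subset_of_mem_open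
          (show i y ∈ ((a.1.1 ⊓ b.1.1 : X.Opens) : Set X) ∩ O from
            ⟨⟨ha hy, hb hy⟩, show y ∈ i ⁻¹' O from hOW ▸ hy⟩)
          ((a.1.1 ⊓ b.1.1).isOpen.inter hO)
      have hVa : V ≤ a.1.1 := fun z hz => (hVO hz).1.1
      have hVb : V ≤ b.1.1 := fun z hz => (hVO hz).1.2
      have hVW : i ⁻¹ᵁ V ≤ W := fun z hz => (Set.ext_iff.1 hOW z).1 (hVO hz).2
      refine ⟨i ⁻¹ᵁ V, hVW, hyV, ?_⟩
      have hra : i ⁻¹ᵁ V ≤ i ⁻¹ᵁ a.1.1 := fun z hz => hVa hz
      have hrb : i ⁻¹ᵁ V ≤ i ⁻¹ᵁ b.1.1 := fun z hz => hVb hz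
      let Da := a.2.1.restrict i cm a.1.2 hV hVa
      let Db := b.2.1.restrict i cm b.1.2 hV hVb
      obtain ⟨A, hA⟩ := exists_matrix i cm Da Db.gen
      obtain ⟨C, h1, h2⟩ := key i cm hc hn φX φY hV Da Db.gen A hA Db.om
      have hta : res _ hra (tt a.1.1 a.1.2 a.2.1) = tt V hV Da := by
        refine (InvX.res_tmul hra _ _).trans ?_
        rw [tX_res i cm φY hφY a.1.2 hV hVa hra, ConormalWedge.wedge_res i φL hφL a.1.2 hV hVa hra]
        rfl
      have htb : res _ hrb (tt b.1.1 b.1.2 b.2.1) = tt V hV Db := by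
        refine (InvX.res_tmul hrb _ _).trans ?_
        rw [tX_res i cm φY hφY b.1.2 hV hVb hrb, ConormalWedge.wedge_res i φL hφL b.1.2 hV hVb hrb]
        rfl
      have hna : res _ hra (nn a.1.1 a.2.1) = nn V Da :=
        val_res i hn φX hφX a.1.2 hV hVa hra _ _
      have hnb : res _ hrb (nn b.1.1 b.2.1) = nn V Db :=
        val_res i hn φX hφX b.1.2 hV hVb hrb _ _
      have hT : tt V hV Db = (i.app V A.det * C.det) • tt V hV Da := by
        show InvX.tmul (tX i cm φY V Db.om) (ConormalWedge.wedge i φL hV Db.gen) = _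
        rw [h1, ConormalWedge.wedge_det i φL hV A hA, InvX.tmul_smul_left, InvX.tmul_smul_right, smul_smul,
          mul_comm C.det]
      have hq' : resR hVW q = i.app V A.det * C.det := by
        have h3 := congrArg (res _ hVW) hq
        rw [res_smul, res_res, res_res] at h3
        rw [htb, hta, hT] at h3
        refine ((InvX.isFrame_tmul (isFrame_top φY hφY (a.1.2.preimage i) a.2.1.frameX)
          (ConormalWedge.wedge_isFrame i φL hφL a.1.2 a.2.2)).coord_unique hra ?_).symm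
        rw [show res _ hra (InvX.tmul _ _) = tt V hV Da from hta]
        exact h3
      rw [res_smul, res_res, res_res, hnb, hna, hq']
      exact h2
  exact ⟨φ.symm⟩

end Groth.Agent.AdjForm
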